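import Cfsg.Agent.Lib.SylL34.Fpf
import Cfsg.Agent.Lib.GL.Basic
import Cfsg.Agent.Lib.Fusion.UniTri
import Cfsg.Agent.Lib.PGroup.CyclicMaximal

/-!
A group of order 64 with an `S₃` of automorphisms, the 3-element fixed-point-free: it is a Sylow
2-subgroup of `PSL₃(4)` and the fixed points of the involution are `D₈` or `Q₈`.
-/

set_option autoImplicit false

namespace Cfsg.Agent.SylL34

open scoped commutatorElement
open Matrix

/-- A computable field with four elements, `l + h ω`. -/
structure F4 where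
  /-- coordinate of `1` -/
  l : Bool
  /-- coordinate of `ω` -/
  h : Bool
deriving DecidableEq

def f4Equiv : F4 ≃ Bool × Bool := ⟨fun x => (x.l, x.h), fun p => ⟨p.1, p.2⟩, fun _ => rfl, fun _ => rfl⟩

instance instFintypeF4 : Fintype F4 := Fintype.ofEquiv _ f4Equiv.symm
instance instAddF4 : Add F4 := ⟨fun a b => ⟨Bool.xor a.l b.l, Bool.xor a.h b.h⟩⟩
instance instMulF4 : Mul F4 := ⟨fun a b =>
  ⟨Bool.xor (a.l && b.l) (a.h && b.h), Bool.xor (Bool.xor (a.l && b.h) (a.h && b.l)) (a.h && b.h)⟩⟩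
instance instNegF4 : Neg F4 := ⟨fun a => a⟩
instance instInvF4 : Inv F4 := ⟨fun a => a * a⟩
instance instZeroF4 : Zero F4 := ⟨⟨false, false⟩⟩
instance instOneF4 : One F4 := ⟨⟨true, false⟩⟩

@[instance_reducible] def fieldF4 : Field F4 :=
  Field.ofMinimalAxioms F4 (by decide) (by decide) (by decide) (by decide) (by decide) (by decide)
    (by decide) (by decide) (by decide) ⟨0, 1, by decide⟩

attribute [instance] fieldF4

theorem card_F4 : Fintype.card F4 = 4 := rfl

variable {T : Type*} [Group T]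

/-- `g` or `1`. -/
def pw (g : T) (b : Bool) : T := if b then g else 1

/-- The coordinate map of an elementary abelian subgroup of order 4. -/
def coord (g g' : T) (a : F4) : T := pw g a.l * pw g' a.h

theorem pw_xor {g : T} (hg : g * g = 1) (a b : Bool) : pw g (Bool.xor a b) = pw g a * pw g b := by
  cases a <;> cases b <;> simp [pw, hg]

theorem coord_add {g g' : T} (hg : g * g = 1) (hg' : g' * g' = 1) (hc : Commute g g') (a b : F4) :
    coord g g' (a + b) = coord g g' a * coord g g' b := by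
  have h1 : Commute (pw g' a.h) (pw g b.l) := by
    unfold pw
    split_ifs <;> first | exact hc.symm | exact Commute.one_right _ | exact Commute.one_left _
  show pw g (Bool.xor a.l b.l) * pw g' (Bool.xor a.h b.h) = _
  rw [pw_xor hg, pw_xor hg', coord, coord]
  calc pw g a.l * pw g b.l * (pw g' a.h * pw g' b.h)
      = pw g a.l * (pw g b.l * pw g' a.h) * pw g' b.h := by group
    _ = pw g a.l * (pw g' a.h * pw g b.l) * pw g' b.h := by rw [h1.eq]
    _ = pw g a.l * pw g' a.h * (pw g b.l * pw g' b.h) := by group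

theorem coord_one (g g' : T) : coord g g' 1 = g := by
  show pw g true * pw g' false = g
  simp [pw]

theorem coord_omega (g g' : T) : coord g g' ⟨false, true⟩ = g' := by
  show pw g false * pw g' true = g'
  simp [pw]

/-- Entries `(a, b, c)` as a unitriangular matrix. -/
def uMat (p : F4 × F4 × F4) : Matrix.SpecialLinearGroup (Fin 3) F4 :=
  ⟨!![1, p.2.1, p.2.2; 0, 1, p.1; 0, 0, 1], by rw [det_fin_three]; simp⟩

theorem uMat_mul (p q : F4 × F4 × F4) :
    uMat p * uMat q = uMat (p.1 + q.1, p.2.1 + q.2.1, p.2.2 + q.2.2 + p.2.1 * q.1) := by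
  refine Subtype.ext ?_
  show !![1, p.2.1, p.2.2; 0, 1, p.1; 0, 0, 1] * !![1, q.2.1, q.2.2; 0, 1, q.1; 0, 0, 1] =
    !![1, p.2.1 + q.2.1, p.2.2 + q.2.2 + p.2.1 * q.1; 0, 1, p.1 + q.1; 0, 0, 1]
  ext i j
  fin_cases i <;> fin_cases j <;> simp [Matrix.mul_apply, Fin.sum_univ_three, add_comm, add_assoc]

theorem regroup {a a' b b' c c' k : T} (hsw : b * a' = a' * b * k) (hc : ∀ g, g * c = c * g)
    (hk : ∀ g, g * k = k * g) :
    a * a' * (b * b') * (c * c' * k) = a * b * c * (a' * b' * c') := by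
  calc a * a' * (b * b') * (c * c' * k) = a * a' * b * (b' * (c * c') * k) := by group
    _ = a * a' * b * (k * (b' * (c * c'))) := by rw [hk]
    _ = a * (a' * b * k) * (b' * c) * c' := by group
    _ = a * (b * a') * (b' * c) * c' := by rw [hsw]
    _ = a * b * (a' * b' * c) * c' := by group
    _ = a * b * (c * (a' * b')) * c' := by rw [hc]
    _ = a * b * c * (a' * b' * c') := by group

variable [Finite T] {ρ x : MulAut T}

namespace Fpf

theorem pw_comm (h : Fpf T ρ) (g k : T) (a b : Bool) : ⁅pw g a, pw k b⁆ = pw ⁅g, k⁆ (a && b) := by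
  cases a <;> cases b <;> simp [pw]

theorem exists_coord_hom (h : Fpf T ρ) (hy : ∃ y, y * y = 1 ∧ y ∉ Subgroup.center T) :
    ∃ φ : F4 × F4 × F4 → T, Function.Bijective φ ∧ ∀ p q : F4 × F4 × F4,
      φ (p.1 + q.1, p.2.1 + q.2.1, p.2.2 + q.2.2 + p.2.1 * q.1) = φ p * φ q := by
  haveI : Fact (Nat.Prime 2) := ⟨Nat.prime_two⟩
  obtain ⟨y, hy2, hyZ⟩ := hy
  obtain ⟨m, hm⟩ : ∃ m, ⁅m, y⁆ ≠ 1 := by
    by_contra hc
    push Not at hc
    exact hyZ (Subgroup.mem_center_iff.mpr fun g => commutatorElement_eq_one_iff_mul_comm.mp (hc g))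
  have hop := fun u => orbit_prod h.three h.fpf u
  have hinv := fun (a b : T) => h.inv_center (h.comm_mem_center a b)
  set c0 := ⁅m, y⁆ with hc0
  have hc0Z : c0 ∈ Subgroup.center T := h.comm_mem_center m y
  have hc01 := h.inv_center hc0Z
  -- a second involution
  have hρy2 : ρ y * ρ y = 1 := by rw [← map_mul, hy2, map_one]
  have hcy : Commute y (ρ y) := SylL34.commute_apply h.three h.fpf y
  obtain ⟨y', hy'2, hy'c⟩ : ∃ y' : T, y' * y' = 1 ∧ ⁅y', y⁆ = c0 := by
    have key : ∀ a : T, ⁅a, y⁆ = 1 → ⁅m, a⁆ * (m * m) * (a * a) = 1 →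
        ∃ y' : T, y' * y' = 1 ∧ ⁅y', y⁆ = c0 := fun a ha e => by
      refine ⟨m * a, ?_, by rw [h.comm_mul_left, ha, mul_one, hc0]⟩
      rw [h.mul_sq, ← h.center_comm (mul_mem (h.sq_mem_center m) (h.sq_mem_center a)) ⁅m, a⁆,
        ← mul_assoc, e]
    have hsq := h.sq_mem_center m
    have hmem : m * m = 1 ∨ m * m = c0 ∨ m * m = ρ c0 ∨ m * m = ρ (ρ c0) := by
      classical
      haveI : Fintype T := Fintype.ofFinite T
      have hd1 : ρ c0 ≠ c0 := fun e => hm (h.fpf _ e)
      have hd2 : ρ (ρ c0) ≠ c0 := fun e => hd1 (by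
        have := congrArg ρ e
        rwa [h.three, eq_comm] at this)
      have hd3 : ρ (ρ c0) ≠ ρ c0 := fun e => hd1 (ρ.injective e)
      have hn1 : ρ c0 ≠ 1 := fun e => hm ((map_eq_one_iff ρ ρ.injective).mp e)
      have hn2 : ρ (ρ c0) ≠ 1 := fun e => hn1 ((map_eq_one_iff ρ ρ.injective).mp e)
      have h4 : ({1, c0, ρ c0, ρ (ρ c0)} : Finset T).card = 4 := by
        rw [Finset.card_insert_of_notMem, Finset.card_insert_of_notMem,
          Finset.card_insert_of_notMem, Finset.card_singleton] <;>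
        · simp only [Finset.mem_insert, Finset.mem_singleton, not_or]
          first
            | exact ⟨Ne.symm hm, Ne.symm hn1, Ne.symm hn2⟩
            | exact ⟨hd1.symm, hd2.symm⟩
            | exact hd3.symm
      have hsub : ({1, c0, ρ c0, ρ (ρ c0)} : Finset T) = (Subgroup.center T : Set T).toFinset := by
        refine Finset.eq_of_subset_of_card_le ?_ ?_
        · intro u hu
          simp only [Finset.mem_insert, Finset.mem_singleton] at hu
          simp only [Set.mem_toFinset, SetLike.mem_coe]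
          rcases hu with rfl | rfl | rfl | rfl
          exacts [one_mem _, hc0Z, apply_mem_center ρ hc0Z, apply_mem_center ρ (apply_mem_center ρ hc0Z)]
        · rw [Set.toFinset_card, h4, Fintype.card_eq_nat_card]
          exact le_of_eq h.card_center
      have hm' : m * m ∈ ({1, c0, ρ c0, ρ (ρ c0)} : Finset T) := by rw [hsub]; simpa using hsq
      simpa using hm'
    have hyy : ⁅ρ y, y⁆ = 1 := commutatorElement_eq_one_iff_mul_comm.mpr hcy.symm.eq
    rcases hmem with e | e | e | e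
    · exact ⟨m, e, rfl⟩
    · refine key y (commutatorElement_self y) ?_
      rw [e, hy2, mul_one, ← hc0]; exact hc01
    · refine key (y * ρ y) (by rw [h.comm_mul_left, commutatorElement_self, hyy, one_mul]) ?_
      rw [h.comm_mul_right, (h.comm_apply_right m y).1, e, h.mul_sq, hy2, hρy2, ← hc0,
        h.commute_apply' y]
      simp only [mul_one]
      rw [mul_assoc, h.center_comm (apply_mem_center ρ hc0Z), ← mul_assoc, hop c0]
    · refine key (ρ y) hyy ?_
      rw [(h.comm_apply_right m y).1, e, hρy2, ← hc0, mul_one, ← map_mul, ← map_mul, hc01,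
        map_one, map_one]
  -- coordinates
  set c2 := ρ (ρ c0) with hc2
  have hc2Z : c2 ∈ Subgroup.center T := apply_mem_center ρ (apply_mem_center ρ hc0Z)
  have hkc : Commute c0 c2 := (h.center_comm hc2Z c0)
  let gA := coord y (ρ y)
  let gB := coord y' (ρ y')
  let gC := coord c0 c2
  have hρy'2 : ρ y' * ρ y' = 1 := by rw [← map_mul, hy'2, map_one]
  have hA : ∀ a b, gA (a + b) = gA a * gA b := coord_add hy2 hρy2 hcy
  have hB : ∀ a b, gB (a + b) = gB a * gB b :=
    coord_add hy'2 hρy'2 (SylL34.commute_apply h.three h.fpf y')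
  have hC : ∀ a b, gC (a + b) = gC a * gC b := coord_add hc01 (h.inv_center hc2Z) hkc
  have hCc : ∀ a, gC a ∈ Subgroup.center T := fun a => by
    show pw c0 a.l * pw c2 a.h ∈ _
    unfold pw
    split_ifs <;> simp [mul_mem, hc0Z, hc2Z, one_mem]
  have hcomm : ∀ b a : F4, ⁅gB b, gA a⁆ = gC (b * a) := by
    have e00 : ⁅y', y⁆ = c0 := hy'c
    have e01 : ⁅y', ρ y⁆ = c2 := by rw [(h.comm_apply_right y' y).1, hy'c]
    have e10 : ⁅ρ y', y⁆ = c2 := by rw [(h.comm_apply_right y' y).2, hy'c]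
    have e11 : ⁅ρ y', ρ y⁆ = c0 * c2 := by
      have h1 := hop c0
      rw [← apply_comm, hy'c, ← h.center_comm hc0Z c2]
      rw [mul_assoc, h.center_comm hc2Z (ρ c0), ← mul_assoc] at h1
      calc ρ c0 = (c0 * c2) * (c0 * c2 * ρ c0) := by
            rw [← mul_assoc, show c0 * c2 * (c0 * c2) = c0 * (c2 * c0) * c2 by group,
              ← h.center_comm hc2Z c0, ← mul_assoc, hc01, one_mul, h.inv_center hc2Z, one_mul]
        _ = c2 * c0 := by rw [h1, mul_one, h.center_comm hc0Z c2]
    intro b a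
    show ⁅pw y' b.l * pw (ρ y') b.h, pw y a.l * pw (ρ y) a.h⁆ =
      pw c0 (Bool.xor (b.l && a.l) (b.h && a.h)) *
        pw c2 (Bool.xor (Bool.xor (b.l && a.h) (b.h && a.l)) (b.h && a.h))
    rw [h.comm_mul_left, h.comm_mul_right, h.comm_mul_right, h.pw_comm, h.pw_comm, h.pw_comm,
      h.pw_comm, e00, e01, e10, e11, pw_xor hc01, pw_xor (h.inv_center hc2Z),
      pw_xor (h.inv_center hc2Z)]
    have hp : pw (c0 * c2) (b.h && a.h) = pw c0 (b.h && a.h) * pw c2 (b.h && a.h) := by
      cases (b.h && a.h) <;> simp [pw]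
    have hcc : ∀ u v : Bool, Commute (pw c0 u) (pw c2 v) := fun u v => by
      unfold pw
      split_ifs <;> first | exact hkc | exact Commute.one_right _ | exact Commute.one_left _
    rw [hp]
    calc pw c0 (b.l && a.l) * pw c2 (b.l && a.h) *
          (pw c2 (b.h && a.l) * (pw c0 (b.h && a.h) * pw c2 (b.h && a.h)))
        = pw c0 (b.l && a.l) * (pw c2 (b.l && a.h) * pw c2 (b.h && a.l) * pw c0 (b.h && a.h)) *
          pw c2 (b.h && a.h) := by group
      _ = pw c0 (b.l && a.l) * (pw c0 (b.h && a.h) * (pw c2 (b.l && a.h) * pw c2 (b.h && a.l))) *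
          pw c2 (b.h && a.h) := by
          rw [((hcc _ _).mul_right (hcc _ _)).eq]
      _ = _ := by group
  refine ⟨fun p => gA p.1 * gB p.2.1 * gC p.2.2, ?_, fun p q => ?_⟩
  swap
  · simp only [hA, hB, hC]
    rw [← hcomm p.2.1 q.1]
    have hsw : gB p.2.1 * gA q.1 = gA q.1 * gB p.2.1 * ⁅gB p.2.1, gA q.1⁆ := by
      rw [h.center_comm (h.comm_mem_center _ _), commutatorElement_def]; group
    exact regroup hsw (h.center_comm (hCc p.2.2)) (h.center_comm (h.comm_mem_center _ _))
  -- injectivity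
  have hch : ∀ k d : F4, k + d = 0 → k = d := by decide
  refine (Nat.bijective_iff_injective_and_card _).mpr ⟨fun p q e => ?_, ?_⟩
  swap
  · rw [Nat.card_eq_fintype_card, Fintype.card_prod, Fintype.card_prod, card_F4, h.card]
  obtain ⟨a, b, c⟩ := p
  obtain ⟨a', b', c'⟩ := q
  simp only at e
  have hCinj : ∀ k, gC k = 1 → k = 0 := by
    rintro ⟨l, k⟩ e1
    have hne : c0 ≠ 1 := hm
    have hne2 : c2 ≠ 1 := fun e2 =>
      hne ((map_eq_one_iff ρ ρ.injective).mp ((map_eq_one_iff ρ ρ.injective).mp e2))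
    have hne3 : c0 * c2 ≠ 1 := fun e2 => by
      have e3 : c0 = c2 := mul_right_cancel (e2.trans (h.inv_center hc2Z).symm) |>.trans rfl
      have := congrArg ρ e3
      rw [hc2, h.three] at this
      exact hne (h.fpf _ this)
    cases l <;> cases k <;>
      simp [gC, coord, pw, hne, hne2, hne3] at e1 <;> rfl
  have hAB : ⁅gB b, gB b'⁆ = 1 ∧ ∀ k, ⁅gA a, gB k⁆ = gC (k * a) := by
    refine ⟨?_, fun k => by rw [h.comm_symm, hcomm]⟩
    refine commutatorElement_eq_one_iff_mul_comm.mpr ?_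
    rw [← hB, ← hB, add_comm]
  have hcentral : ∀ k d : F4, ⁅gC k, gA d⁆ = 1 := fun k d =>
    commutatorElement_eq_one_iff_mul_comm.mpr (h.center_comm (hCc k) (gA d)).symm
  have hcentral' : ∀ k d : F4, ⁅gC k, gB d⁆ = 1 := fun k d =>
    commutatorElement_eq_one_iff_mul_comm.mpr (h.center_comm (hCc k) (gB d)).symm
  have hself : ∀ k d : F4, ⁅gA k, gA d⁆ = 1 := fun k d =>
    commutatorElement_eq_one_iff_mul_comm.mpr (by rw [← hA, ← hA, add_comm])
  have hself' : ∀ k d : F4, ⁅gB k, gB d⁆ = 1 := fun k d =>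
    commutatorElement_eq_one_iff_mul_comm.mpr (by rw [← hB, ← hB, add_comm])
  -- commutators with `y` and `y'` give the coordinates
  have hb : b = b' := by
    have := congrArg (fun t => ⁅t, gA 1⁆) e
    simp only [h.comm_mul_left, hcentral, hself, hcomm, mul_one, one_mul] at this
    have h0 : gC (b + b') = 1 := by rw [hC, this]; exact h.inv_center (hCc _)
    exact hch _ _ (hCinj _ h0)
  have ha : a = a' := by
    have := congrArg (fun t => ⁅t, gB 1⁆) e
    have hab : ∀ k d : F4, ⁅gA k, gB d⁆ = gC (d * k) := fun k d => by rw [h.comm_symm, hcomm]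
    simp only [h.comm_mul_left, hcentral', hself', hab, mul_one, one_mul] at this
    have h0 : gC (a + a') = 1 := by rw [hC, this]; exact h.inv_center (hCc _)
    exact hch _ _ (hCinj _ h0)
  subst hb ha
  have h1 := mul_left_cancel e
  have h0 : gC (c + c') = 1 := by rw [hC, h1]; exact h.inv_center (hCc _)
  have hc' := hch _ _ (hCinj _ h0)
  rw [hc']

theorem exists_sylow_equiv (h : Fpf T ρ) (hy : ∃ y, y * y = 1 ∧ y ∉ Subgroup.center T) :
    ∃ S : Sylow 2 (Matrix.ProjectiveSpecialLinearGroup (Fin 3) F4),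
      Nonempty (T ≃* ↥(S : Subgroup (Matrix.ProjectiveSpecialLinearGroup (Fin 3) F4))) := by
  haveI : Fact (Nat.Prime 2) := ⟨Nat.prime_two⟩
  obtain ⟨φ, hφ, hmul⟩ := h.exists_coord_hom hy
  let e := Equiv.ofBijective φ hφ
  have hinv : ∀ p q, e.symm (φ p * φ q) = (p.1 + q.1, p.2.1 + q.2.1, p.2.2 + q.2.2 + p.2.1 * q.1) :=
    fun p q => by rw [← hmul]; exact e.symm_apply_apply _
  let ψ : T →* Matrix.ProjectiveSpecialLinearGroup (Fin 3) F4 := MonoidHom.mk'
    (fun t => QuotientGroup.mk' _ (uMat (e.symm t))) fun s t => by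
      rw [← map_mul, uMat_mul]
      congr 2
      rw [← hinv, show φ (e.symm s) = s from e.apply_symm_apply s,
        show φ (e.symm t) = t from e.apply_symm_apply t]
  have hψ : Function.Injective ψ := by
    refine (injective_iff_map_eq_one ψ).mpr fun t ht => ?_
    have hc : uMat (e.symm t) ∈ Subgroup.center (Matrix.SpecialLinearGroup (Fin 3) F4) :=
      (QuotientGroup.eq_one_iff _).mp ht
    obtain ⟨r, -, hr⟩ := Matrix.SpecialLinearGroup.mem_center_iff.mp hc
    have h01 := congrFun (congrFun hr 0) 1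
    have h02 := congrFun (congrFun hr 0) 2
    have h12 := congrFun (congrFun hr 1) 2
    simp [uMat, Matrix.scalar_apply] at h01 h02 h12
    have he : e.symm t = (0, 0, 0) := Prod.ext h12.symm (Prod.ext h01.symm h02.symm)
    have h1 : φ (0, 0, 0) = φ (0, 0, 0) * φ (0, 0, 0) := by
      rw [← hmul]; simp
    have ht' : t = φ (0, 0, 0) := by rw [← he]; exact (e.apply_symm_apply t).symm
    rw [ht']
    exact mul_eq_left.mp h1.symm
  have hrange : Nat.card ψ.range = 64 :=
    (Nat.card_congr (MonoidHom.ofInjective hψ).toEquiv).symm.trans h.card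
  have hcard : Nat.card (Matrix.ProjectiveSpecialLinearGroup (Fin 3) F4) = 20160 := by
    have := GL.gcd_mul_card_PSL (F := F4) 3 (by norm_num)
    rw [GL.card_SL_prod, card_F4, Finset.prod_Ico_succ_top (show 2 ≤ 3 by norm_num),
      Finset.prod_Ico_succ_top (show 2 ≤ 2 from le_rfl)] at this
    have hg : Nat.gcd 3 (4 - 1) = 3 := by decide
    rw [hg] at this
    norm_num at this
    rw [Nat.card_eq_fintype_card]
    omega
  have hfac : (Nat.card (Matrix.ProjectiveSpecialLinearGroup (Fin 3) F4)).factorization 2 = 6 := by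
    rw [hcard, show (20160 : ℕ) = 2 ^ 6 * 315 by norm_num, Nat.factorization_mul (by norm_num) (by norm_num),
      Nat.Prime.factorization_pow Nat.prime_two, Finsupp.add_apply, Finsupp.single_eq_same,
      Nat.factorization_eq_zero_of_not_dvd (by norm_num : ¬ 2 ∣ 315)]
  let S : Sylow 2 (Matrix.ProjectiveSpecialLinearGroup (Fin 3) F4) :=
    Sylow.ofCard ψ.range (by rw [hrange, hfac]; norm_num)
  exact ⟨S, ⟨(MonoidHom.ofInjective hψ).trans (MulEquiv.subgroupCongr rfl)⟩⟩

theorem fixed_iso (h : Fpf T ρ) (hxr : ∀ y, x (ρ y) = ρ (ρ (x y))) (hx : ∀ y, x (x y) = y)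
    (C : Subgroup T) (hC : ∀ y, y ∈ C ↔ x y = y) :
    Nonempty (↥C ≃* DihedralGroup 4) ∨ Nonempty (↥C ≃* QuaternionGroup 2) := by
  haveI : Fact (Nat.Prime 2) := ⟨Nat.prime_two⟩
  obtain ⟨h8, -⟩ := h.decomp hxr hx C hC
  obtain ⟨u, hu, v, hv, huv⟩ := h.exists_comm_ne hxr hx C hC
  have hna : ∃ a b : C, a * b ≠ b * a := ⟨⟨u, hu⟩, ⟨v, hv⟩, fun e =>
    huv (commutatorElement_eq_one_iff_mul_comm.mpr (congrArg Subtype.val e))⟩
  obtain ⟨g, hg⟩ : ∃ g : C, g * g ≠ 1 := by
    by_contra hc
    push Not at hc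
    obtain ⟨a, b, hab⟩ := hna
    refine hab ?_
    calc a * b = a * ((a * b) * (a * b)) * b := by rw [hc, mul_one]
      _ = (a * a) * (b * a) * (b * b) := by group
      _ = b * a := by rw [hc, hc, one_mul, mul_one]
  have hg4 : orderOf g = 4 := by
    have hd : g ^ 4 = 1 := by
      refine Subtype.ext ?_
      show ((g : C) : T) ^ 4 = 1
      rw [pow_succ, pow_succ, pow_two, mul_assoc]
      exact h.inv_center (h.sq_mem_center _)
    exact orderOf_eq_prime_pow (p := 2) (n := 1) (by simpa [pow_two] using hg) hd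
  have hidx : (Subgroup.zpowers g).index = 2 := by
    have := (Subgroup.zpowers g).card_mul_index
    rw [Nat.card_zpowers, hg4, h8] at this
    omega
  obtain ⟨a, b, -, ha, hb, -, hcase⟩ :=
    PGroup.cyclic_index_two (m := 2) le_rfl (by rw [h8]; norm_num) _ inferInstance hidx hna
  rcases hcase with ⟨h1, h2⟩ | ⟨h1, h2⟩ | ⟨h1, -⟩ | ⟨h1, -⟩
  · exact Or.inl (PGroup.dihedralEquivOfRel (N := 4) (by rw [ha]; norm_num) hb h1 h2 (by rw [h8]))
  · exact Or.inr (PGroup.quaternionEquivOfRel (N := 2) (by rw [ha]; norm_num) hb (by simpa using h1) h2 (by rw [h8]))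
  · omega
  · omega

end Fpf

end Cfsg.Agent.SylL34
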