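import Mathlib
import Cfsg.Agent.Lib.PGroup.Basic

/-!
A non-abelian group of order 64 with a fixed-point-free automorphism `ρ` of order 3: centre of
order 4, elementary abelian central quotient, and the twisted bilinearity of the commutator; with
an involution inverting `ρ`, its fixed points and an involution outside the centre.
-/

set_option autoImplicit false

namespace Cfsg.Agent.SylL34

open scoped commutatorElement

section General

variable {G : Type*} [Group G] [Finite G] {σ : MulAut G}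

theorem inv_mul_bijective (hfp : ∀ y, σ y = y → y = 1) :
    Function.Bijective (fun g : G => g⁻¹ * σ g) := by
  refine Finite.injective_iff_bijective.mp fun a b h => ?_
  have : σ (b * a⁻¹) = b * a⁻¹ := by
    rw [map_mul, map_inv, eq_comm]
    calc b * a⁻¹ = b * (a⁻¹ * σ a) * (σ a)⁻¹ := by group
      _ = σ b * (σ a)⁻¹ := by rw [h]; group
  exact (mul_inv_eq_one.mp (hfp _ this)).symm

theorem orbit_prod (h3 : ∀ g, σ (σ (σ g)) = g) (hfp : ∀ y, σ y = y → y = 1) (y : G) :
    y * σ y * σ (σ y) = 1 := by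
  obtain ⟨g, rfl⟩ := (inv_mul_bijective hfp).2 y
  simp only [map_mul, map_inv, h3]
  group

theorem commute_apply (h3 : ∀ g, σ (σ (σ g)) = g) (hfp : ∀ y, σ y = y → y = 1) (y : G) :
    Commute y (σ y) := by
  have h1 := orbit_prod h3 hfp y
  have h2 := congrArg (·⁻¹) (orbit_prod h3 hfp y⁻¹)
  simp only [map_inv, mul_inv_rev, inv_inv, inv_one] at h2
  exact (eq_inv_of_mul_eq_one_left h1).trans (eq_inv_of_mul_eq_one_right h2).symm

theorem fpf_quotient (hfp : ∀ y, σ y = y → y = 1) (N : Subgroup G) (hN : ∀ x ∈ N, σ x ∈ N) {g : G}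
    (hg : g⁻¹ * σ g ∈ N) : g ∈ N := by
  have hinj : Function.Injective (fun n : N => (⟨(n : G)⁻¹ * σ n, mul_mem (inv_mem n.2) (hN _ n.2)⟩ : N)) :=
    fun a b h => Subtype.ext ((inv_mul_bijective hfp).1 (congrArg Subtype.val h))
  obtain ⟨n, hn⟩ := (Finite.injective_iff_surjective.mp hinj) ⟨_, hg⟩
  rw [← (inv_mul_bijective hfp).1 (congrArg Subtype.val hn)]
  exact n.2

theorem card_mod_three (h3 : ∀ g, σ (σ (σ g)) = g) (hfp : ∀ y, σ y = y → y = 1) (N : Subgroup G)
    (hN : ∀ x ∈ N, σ x ∈ N) : Nat.card N ≡ 1 [MOD 3] := by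
  classical
  haveI : Fintype G := Fintype.ofFinite G
  haveI : Fact (Nat.Prime 3) := ⟨Nat.prime_three⟩
  let f : Function.End N := fun x => ⟨σ x, hN x x.2⟩
  have hf : f ^ 3 ^ 1 = 1 := by
    funext x
    exact Subtype.ext (h3 x)
  have h := Equiv.Perm.card_fixedPoints_modEq (p := 3) (n := 1) hf
  rw [Fintype.card_eq_nat_card] at h
  have h1 : Fintype.card (Function.fixedPoints f) = 1 :=
    Fintype.card_eq_one_iff.mpr ⟨⟨1, Subtype.ext (map_one σ)⟩,
      fun x => Subtype.ext (Subtype.ext (hfp _ (congrArg Subtype.val x.2)))⟩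
  rwa [h1] at h

/-- An invariant central subgroup of index 4 makes the group abelian. -/
theorem comm_of_center_card (h3 : ∀ g, σ (σ (σ g)) = g) (hfp : ∀ y, σ y = y → y = 1)
    (h4 : 4 * Nat.card (Subgroup.center G) = Nat.card G) (hG : IsPGroup 2 G) : False := by
  haveI : Fact (Nat.Prime 2) := ⟨Nat.prime_two⟩
  have hne : Subgroup.center G ≠ ⊤ := fun e => by
    rw [e, Subgroup.card_top] at h4
    have : 0 < Nat.card G := Nat.card_pos
    omega
  obtain ⟨y, -, hy⟩ := SetLike.exists_of_lt (lt_top_iff_ne_top.mpr hne)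
  have hZ : ∀ x ∈ Subgroup.center G, σ x ∈ Subgroup.center G := fun x hx => by
    rw [Subgroup.mem_center_iff] at hx ⊢
    intro g
    obtain ⟨g, rfl⟩ := σ.surjective g
    rw [← map_mul, ← map_mul, hx g]
  have hC : Subgroup.center G ≤ Subgroup.centralizer {y} := Subgroup.center_le_centralizer _
  have hyC : y ∈ Subgroup.centralizer {y} := Subgroup.mem_centralizer_singleton_iff.mpr rfl
  have hsC : σ y ∈ Subgroup.centralizer {y} :=
    Subgroup.mem_centralizer_singleton_iff.mpr (commute_apply h3 hfp y).symm.eq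
  have h2 : 2 * Nat.card (Subgroup.center G ⊔ Subgroup.zpowers y : Subgroup G) ≤
      Nat.card (Subgroup.centralizer {y}) := by
    refine PGroup.mul_card_le_card hG (lt_of_le_of_ne (sup_le hC (Subgroup.zpowers_le.mpr hyC)) fun e => ?_)
    have hsy : σ y ∈ Subgroup.center G ⊔ Subgroup.zpowers y := e ▸ hsC
    rw [← SetLike.mem_coe, Subgroup.normal_mul] at hsy
    obtain ⟨z, hz, w, hw, e'⟩ := hsy
    obtain ⟨k, rfl⟩ := Subgroup.mem_zpowers_iff.mp hw
    simp only at e'
    -- an invariant subgroup of index 2 over the centre would have order not 1 mod 3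
    have hinv : ∀ x ∈ Subgroup.center G ⊔ Subgroup.zpowers y, σ x ∈ Subgroup.center G ⊔ Subgroup.zpowers y := by
      have hle : Subgroup.center G ⊔ Subgroup.zpowers y ≤
          (Subgroup.center G ⊔ Subgroup.zpowers y).comap σ.toMonoidHom :=
        sup_le (fun x hx => Subgroup.mem_sup_left (hZ x hx))
          (Subgroup.zpowers_le.mpr (e ▸ hsC : σ y ∈ _))
      exact fun x hx => hle hx
    have hmod := card_mod_three h3 hfp _ hinv
    have hmodZ := card_mod_three h3 hfp _ hZ
    have hlt := PGroup.mul_card_le_card hG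
      (lt_of_le_of_ne (le_sup_left : Subgroup.center G ≤ Subgroup.center G ⊔ Subgroup.zpowers y)
        fun e2 => hy (e2 ▸ Subgroup.mem_sup_right (Subgroup.mem_zpowers y)))
    have hCne : Subgroup.centralizer {y} ≠ ⊤ := fun et => hy (by
      rw [Subgroup.mem_center_iff]
      intro g
      exact (Subgroup.mem_centralizer_singleton_iff.mp (et ▸ Subgroup.mem_top g)))
    have hCl := PGroup.mul_card_le_card hG (lt_top_iff_ne_top.mpr hCne)
    rw [Subgroup.card_top, ← e] at hCl
    unfold Nat.ModEq at hmod hmodZ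
    omega
  have hlt := PGroup.mul_card_le_card hG
    (lt_of_le_of_ne (le_sup_left : Subgroup.center G ≤ Subgroup.center G ⊔ Subgroup.zpowers y)
      fun e => hy (e ▸ Subgroup.mem_sup_right (Subgroup.mem_zpowers y)))
  have hCt : Subgroup.centralizer {y} = ⊤ :=
    Subgroup.eq_top_of_card_eq _ (le_antisymm (Subgroup.card_le_card_group _) (by omega))
  refine hy (Subgroup.mem_center_iff.mpr fun g => ?_)
  exact Subgroup.mem_centralizer_singleton_iff.mp (hCt ▸ Subgroup.mem_top g)

end General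

variable {T : Type*} [Group T] [Finite T]

/-- The standing hypotheses. -/
structure Fpf (T : Type*) [Group T] (ρ : MulAut T) : Prop where
  card : Nat.card T = 64
  nonab : ¬ IsMulCommutative T
  three : ∀ y, ρ (ρ (ρ y)) = y
  fpf : ∀ y, ρ y = y → y = 1

variable {ρ : MulAut T}

namespace Fpf

theorem pgroup (h : Fpf T ρ) : IsPGroup 2 T := IsPGroup.of_card (n := 6) (by rw [h.card]; rfl)

theorem apply_mem_center {G : Type*} [Group G] (φ : MulAut G) {x : G} (hx : x ∈ Subgroup.center G) :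
    φ x ∈ Subgroup.center G := by
  rw [Subgroup.mem_center_iff] at hx ⊢
  intro g
  obtain ⟨g, rfl⟩ := φ.surjective g
  rw [← map_mul, ← map_mul, hx g]

theorem card_center (h : Fpf T ρ) : Nat.card (Subgroup.center T) = 4 := by
  haveI : Fact (Nat.Prime 2) := ⟨Nat.prime_two⟩
  have hmod : Nat.card (Subgroup.center T) % 3 = 1 :=
    card_mod_three h.three h.fpf _ fun x hx => apply_mem_center ρ hx
  haveI : Nontrivial T := Finite.one_lt_card_iff_nontrivial.mp (by rw [h.card]; norm_num)
  have hgt : 1 < Nat.card (Subgroup.center T) :=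
    Finite.one_lt_card_iff_nontrivial.mpr h.pgroup.center_nontrivial
  obtain ⟨k, hk⟩ := PGroup.card_eq_pow h.pgroup (Subgroup.center T)
  have hdvd := Subgroup.card_subgroup_dvd_card (Subgroup.center T)
  rw [h.card] at hdvd
  have h16 : Nat.card (Subgroup.center T) ≠ 16 := fun e =>
    comm_of_center_card h.three h.fpf (by rw [e, h.card]) h.pgroup
  have h64 : Nat.card (Subgroup.center T) ≠ 64 := fun e => h.nonab
    ⟨⟨fun a b => Subgroup.mem_center_iff.mp
      ((Subgroup.eq_top_of_card_eq _ (e.trans h.card.symm)) ▸ Subgroup.mem_top b) a⟩⟩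
  have hk6 : k ≤ 6 := by
    by_contra hk'
    have := Nat.le_of_dvd (by norm_num) hdvd
    rw [hk] at this
    have : 2 ^ 7 ≤ 2 ^ k := Nat.pow_le_pow_right (by norm_num) (by omega)
    omega
  interval_cases k <;> simp_all

theorem inv_center (h : Fpf T ρ) {z : T} (hz : z ∈ Subgroup.center T) : z * z = 1 := by
  classical
  haveI : Fintype T := Fintype.ofFinite T
  haveI : Fact (Nat.Prime 2) := ⟨Nat.prime_two⟩
  obtain ⟨i, hi⟩ := exists_prime_orderOf_dvd_card' (G := Subgroup.center T) 2 (by rw [h.card_center]; norm_num)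
  by_cases hz1 : z = 1
  · simp [hz1]
  have hi2 : (i : T) * i = 1 := by
    rw [← pow_two, ← Subgroup.orderOf_coe] at *
    exact hi ▸ pow_orderOf_eq_one (i : T)
  have hi1 : (i : T) ≠ 1 := fun e => by
    rw [← Subgroup.orderOf_coe, e, orderOf_one] at hi
    omega
  have hd1 : ρ (i : T) ≠ i := fun e => hi1 (h.fpf _ e)
  have hd2 : ρ (ρ (i : T)) ≠ ρ i := fun e => hd1 (ρ.injective e)
  have hd3 : ρ (ρ (i : T)) ≠ i := fun e => hd1 (by
    have := congrArg ρ e
    rwa [h.three, eq_comm] at this)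
  have hn1 : ρ (i : T) ≠ 1 := fun e => hi1 ((map_eq_one_iff ρ ρ.injective).mp e)
  have hn2 : ρ (ρ (i : T)) ≠ 1 := fun e => hn1 ((map_eq_one_iff ρ ρ.injective).mp e)
  have hsub : ({1, (i : T), ρ (i : T), ρ (ρ (i : T))} : Finset T) =
      (Subgroup.center T : Set T).toFinset := by
    refine Finset.eq_of_subset_of_card_le ?_ ?_
    · intro x hx
      simp only [Finset.mem_insert, Finset.mem_singleton] at hx
      simp only [Set.mem_toFinset, SetLike.mem_coe]
      rcases hx with rfl | rfl | rfl | rfl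
      exacts [one_mem _, i.2, apply_mem_center ρ i.2, apply_mem_center ρ (apply_mem_center ρ i.2)]
    · have h4 : ({1, (i : T), ρ (i : T), ρ (ρ (i : T))} : Finset T).card = 4 := by
        rw [Finset.card_insert_of_notMem, Finset.card_insert_of_notMem,
          Finset.card_insert_of_notMem, Finset.card_singleton] <;> simp [*, Ne.symm]
      rw [Set.toFinset_card, h4, Fintype.card_eq_nat_card]
      exact le_of_eq h.card_center
  have hz' : z ∈ ({1, (i : T), ρ (i : T), ρ (ρ (i : T))} : Finset T) := by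
    rw [hsub]; simpa using hz
  simp only [Finset.mem_insert, Finset.mem_singleton] at hz'
  rcases hz' with rfl | rfl | rfl | rfl
  · exact mul_one 1
  · exact hi2
  · rw [← map_mul, hi2, map_one]
  · rw [← map_mul, ← map_mul, hi2, map_one, map_one]

theorem comm_mem_center (h : Fpf T ρ) (a b : T) : ⁅a, b⁆ ∈ Subgroup.center T := by
  haveI : Fact (Nat.Prime 2) := ⟨Nat.prime_two⟩
  let Q := T ⧸ Subgroup.center T
  have hmap : (Subgroup.center T).map ρ.toMonoidHom = Subgroup.center T :=
    Subgroup.characteristic_iff_map_eq.mp inferInstance ρ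
  let σ : MulAut Q := QuotientGroup.congr _ _ ρ hmap
  have hσ : ∀ t : T, σ (t : Q) = (ρ t : Q) := fun t => rfl
  have h3 : ∀ g, σ (σ (σ g)) = g := fun g => by
    induction g using QuotientGroup.induction_on with
    | _ t => rw [hσ, hσ, hσ, h.three]
  have hfp : ∀ g, σ g = g → g = 1 := fun g => by
    induction g using QuotientGroup.induction_on with
    | _ t =>
      intro e
      rw [hσ, eq_comm, QuotientGroup.eq] at e
      exact (QuotientGroup.eq_one_iff t).mpr
        (fpf_quotient h.fpf _ (fun x hx => apply_mem_center ρ hx) e)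
  have hcard : Nat.card Q = 16 := by
    have := Subgroup.card_eq_card_quotient_mul_card_subgroup (Subgroup.center T)
    rw [h.card, h.card_center] at this
    show Nat.card (T ⧸ Subgroup.center T) = 16
    omega
  have hQ : IsPGroup 2 Q := h.pgroup.to_quotient _
  have htop : Subgroup.center Q = ⊤ := by
    have hmod : Nat.card (Subgroup.center Q) % 3 = 1 :=
      card_mod_three h3 hfp _ fun x hx => apply_mem_center σ hx
    haveI : Nontrivial Q := Finite.one_lt_card_iff_nontrivial.mp (by rw [hcard]; norm_num)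
    have hgt : 1 < Nat.card (Subgroup.center Q) :=
      Finite.one_lt_card_iff_nontrivial.mpr hQ.center_nontrivial
    obtain ⟨k, hk⟩ := PGroup.card_eq_pow hQ (Subgroup.center Q)
    have h4 : Nat.card (Subgroup.center Q) ≠ 4 := fun e => comm_of_center_card h3 hfp (by rw [e, hcard]) hQ
    have hle := Subgroup.card_le_card_group (Subgroup.center Q)
    rw [hcard] at hle
    have hk4 : k ≤ 4 := (Nat.pow_le_pow_iff_right (le_refl 2)).mp (hk ▸ hle : 2 ^ k ≤ 2 ^ 4)
    refine Subgroup.eq_top_of_card_eq _ ?_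
    rw [hcard, hk]
    interval_cases k <;> simp_all
  rw [← QuotientGroup.eq_one_iff, ← QuotientGroup.mk'_apply, map_commutatorElement,
    commutatorElement_eq_one_iff_mul_comm]
  exact Subgroup.mem_center_iff.mp (htop ▸ Subgroup.mem_top _) _

theorem center_comm (h : Fpf T ρ) {z : T} (hz : z ∈ Subgroup.center T) (t : T) : t * z = z * t :=
  Subgroup.mem_center_iff.mp hz t

theorem comm_mul_left (h : Fpf T ρ) (a b c : T) : ⁅a * b, c⁆ = ⁅a, c⁆ * ⁅b, c⁆ := by
  rw [show ⁅a * b, c⁆ = a * ⁅b, c⁆ * a⁻¹ * ⁅a, c⁆ by simp only [commutatorElement_def]; group,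
    h.center_comm (h.comm_mem_center b c) a, mul_inv_cancel_right,
    h.center_comm (h.comm_mem_center a c)]

theorem comm_symm (h : Fpf T ρ) (a b : T) : ⁅a, b⁆ = ⁅b, a⁆ := by
  rw [← commutatorElement_inv b a]
  exact inv_eq_of_mul_eq_one_left (h.inv_center (h.comm_mem_center b a))

theorem comm_mul_right (h : Fpf T ρ) (a b c : T) : ⁅a, b * c⁆ = ⁅a, b⁆ * ⁅a, c⁆ := by
  rw [h.comm_symm, h.comm_mul_left, h.comm_symm b, h.comm_symm c]

theorem comm_inv_left (h : Fpf T ρ) (a b : T) : ⁅a⁻¹, b⁆ = ⁅a, b⁆ := by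
  have := h.comm_mul_left a⁻¹ a b
  rw [inv_mul_cancel, commutatorElement_one_left] at this
  exact mul_right_cancel (this.symm.trans (h.inv_center (h.comm_mem_center a b)).symm)

theorem sq_mem_center (h : Fpf T ρ) (y : T) : y * y ∈ Subgroup.center T := by
  refine Subgroup.mem_center_iff.mpr fun g => ?_
  have : ⁅y * y, g⁆ = 1 := by rw [h.comm_mul_left, h.inv_center (h.comm_mem_center y g)]
  exact (commutatorElement_eq_one_iff_mul_comm.mp this).symm

/-- The product of two elements squared. -/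
theorem mul_sq (h : Fpf T ρ) (a b : T) : (a * b) * (a * b) = a * a * (b * b) * ⁅a, b⁆ := by
  have hc := h.comm_mem_center b a
  calc (a * b) * (a * b) = a * (⁅b, a⁆ * a * b) * b := by rw [commutatorElement_def]; group
    _ = a * (a * ⁅b, a⁆ * b) * b := by rw [h.center_comm hc a]
    _ = a * a * (⁅b, a⁆ * (b * b)) := by group
    _ = a * a * (b * b) * ⁅a, b⁆ := by
      rw [← h.center_comm hc, h.comm_symm b a]; group

theorem apply_comm (a b : T) (φ : MulAut T) : φ ⁅a, b⁆ = ⁅φ a, φ b⁆ :=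
  map_commutatorElement φ.toMonoidHom a b

theorem commute_apply' (h : Fpf T ρ) (y : T) : ⁅y, ρ y⁆ = 1 :=
  commutatorElement_eq_one_iff_mul_comm.mpr (SylL34.commute_apply h.three h.fpf y).eq

/-- The commutator is twisted bilinear over the field of four elements. -/
theorem comm_apply_right (h : Fpf T ρ) (p q : T) : ⁅p, ρ q⁆ = ρ (ρ ⁅p, q⁆) ∧ ⁅ρ p, q⁆ = ρ (ρ ⁅p, q⁆) := by
  have hop := fun y => orbit_prod h.three h.fpf y
  have hr : ∀ y : T, ρ (ρ y) = (y * ρ y)⁻¹ := fun y => eq_inv_of_mul_eq_one_right (hop y)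
  set e1 := ⁅p, ρ q⁆ with he1
  set e2 := ⁅ρ p, q⁆ with he2
  have hc := h.comm_mem_center
  have hρe1 : ρ e1 = e2 * ρ ⁅p, q⁆ := by
    rw [he1, he2, apply_comm, apply_comm, hr q, h.comm_symm, h.comm_inv_left, h.comm_symm,
      h.comm_mul_right]
  have hρe2 : ρ e2 = e1 * ρ ⁅p, q⁆ := by
    rw [he2, he1, apply_comm, apply_comm, hr p, h.comm_inv_left, h.comm_mul_left]
  have hz : ρ ⁅p, q⁆ * ρ ⁅p, q⁆ = 1 := by rw [← map_mul, h.inv_center (hc p q), map_one]
  have heq : e1 = e2 := by
    have hfix : ρ (e1 * e2) = e1 * e2 := by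
      rw [map_mul, hρe1, hρe2, mul_assoc, ← mul_assoc (ρ ⁅p, q⁆),
        ← h.center_comm (apply_mem_center ρ (hc p q)) e1, mul_assoc, hz, mul_one,
        ← h.center_comm (hc (ρ p) q)]
    have h1 := h.fpf _ hfix
    have h2 : e2 * e2 = 1 := h.inv_center (hc _ _)
    exact mul_right_cancel (h1.trans h2.symm)
  refine ⟨?_, heq ▸ ?_⟩ <;>
  · show e1 = _
    have h1 : e1 * ρ e1 = ρ ⁅p, q⁆ := by
      rw [hρe1, ← heq, ← mul_assoc, h.inv_center (hc p (ρ q)), one_mul]
    have h2 : ρ (ρ e1) = ρ ⁅p, q⁆ := by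
      rw [hr e1, h1]
      exact inv_eq_of_mul_eq_one_left hz
    have h3 := congrArg ρ h2
    rwa [h.three] at h3

variable {x : MulAut T}

/-- Elements fixed by `x`. -/
theorem fixed_inter (h : Fpf T ρ) (hxr : ∀ y, x (ρ y) = ρ (ρ (x y))) {v w : T} (hv : x v = v)
    (hw : x w = w) (e : v = ρ w) : v = 1 := by
  have : ρ (ρ w) = ρ w := by
    rw [e, hxr, hw] at hv
    exact hv
  rw [e, h.fpf _ this]

theorem decomp (h : Fpf T ρ) (hxr : ∀ y, x (ρ y) = ρ (ρ (x y))) (hx : ∀ y, x (x y) = y) (C : Subgroup T)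
    (hC : ∀ y, y ∈ C ↔ x y = y) :
    Nat.card C = 8 ∧ ∀ t : T, ∃ a ∈ C, ∃ b ∈ C, t = a * ρ b := by
  haveI : Fact (Nat.Prime 2) := ⟨Nat.prime_two⟩
  let m : C × C → T := fun p => (p.1 : T) * ρ p.2
  have hinj : Function.Injective m := by
    rintro ⟨⟨a, ha⟩, ⟨b, hb⟩⟩ ⟨⟨a', ha'⟩, ⟨b', hb'⟩⟩ e
    simp only [m] at e
    have e' : a'⁻¹ * a = ρ (b' * b⁻¹) := by
      rw [map_mul, map_inv, ← inv_mul_cancel_left a' (ρ b'), ← e]; group
    have h1 := h.fixed_inter hxr ((hC _).mp (mul_mem (inv_mem ha') ha))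
      ((hC _).mp (mul_mem hb' (inv_mem hb))) e'
    have h2 : b' * b⁻¹ = 1 := (map_eq_one_iff ρ ρ.injective).mp (e'.symm.trans h1)
    exact Prod.ext (Subtype.ext (inv_mul_eq_one.mp h1).symm) (Subtype.ext (mul_inv_eq_one.mp h2).symm)
  have hle : Nat.card C * Nat.card C ≤ 64 := by
    rw [← Nat.card_prod, ← h.card]; exact Nat.card_le_card_of_injective m hinj
  -- lower bound
  let D : Subgroup T :=
    { carrier := {y | y⁻¹ * x y ∈ Subgroup.center T}
      one_mem' := by simp
      mul_mem' := fun {a b} ha hb => by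
        show (a * b)⁻¹ * x (a * b) ∈ Subgroup.center T
        rw [map_mul, show (a * b)⁻¹ * (x a * x b) = b⁻¹ * (a⁻¹ * x a) * x b by group,
          h.center_comm ha b⁻¹, mul_assoc]
        exact mul_mem ha hb
      inv_mem' := fun {a} ha => by
        show a⁻¹⁻¹ * x a⁻¹ ∈ Subgroup.center T
        have ha' : (a⁻¹ * x a)⁻¹ ∈ Subgroup.center T :=
          inv_mem (show a⁻¹ * x a ∈ Subgroup.center T from ha)
        rw [map_inv, inv_inv]
        convert (inferInstance : (Subgroup.center T).Normal).conj_mem _ ha' a using 1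
        group }
  let π := QuotientGroup.mk' (Subgroup.center T)
  let δ : T →* T ⧸ Subgroup.center T := MonoidHom.mk' (fun y => π (y * x y)) fun a b => by
    have hcomm : ∀ u v : T, π u * π v = π v * π u := fun u v =>
      commutatorElement_eq_one_iff_mul_comm.mp (by
        rw [← map_commutatorElement, QuotientGroup.mk'_apply, QuotientGroup.eq_one_iff]
        exact h.comm_mem_center u v)
    simp only [map_mul]
    rw [mul_assoc, ← mul_assoc (π b), hcomm b (x a), mul_assoc, ← mul_assoc, ← mul_assoc]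
  have hker : δ.ker = D := by
    ext y
    rw [MonoidHom.mem_ker]
    show π (y * x y) = 1 ↔ y⁻¹ * x y ∈ Subgroup.center T
    rw [QuotientGroup.mk'_apply, QuotientGroup.eq_one_iff,
      show y * x y = (y * y) * (y⁻¹ * x y) by group, mul_mem_cancel_left (h.sq_mem_center y)]
  have hrange : δ.range ≤ D.map π := by
    rintro _ ⟨y, rfl⟩
    refine ⟨y * x y, ?_, rfl⟩
    show (y * x y)⁻¹ * x (y * x y) ∈ Subgroup.center T
    rw [map_mul, hx, show (y * x y)⁻¹ * (x y * y) = ⁅(x y)⁻¹, y⁻¹⁆ by rw [commutatorElement_def]; group]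
    exact h.comm_mem_center _ _
  have hD16 : 16 ≤ Nat.card D := by
    have h1 := δ.ker.card_mul_index
    rw [Subgroup.index_ker, hker, h.card] at h1
    have h2 := Subgroup.card_le_of_le hrange
    have h3 := (π.subgroupMap D).ker.card_mul_index
    rw [Subgroup.index_ker, MonoidHom.range_eq_top.mpr (π.subgroupMap_surjective D), Subgroup.card_top] at h3
    have h4 : 4 ≤ Nat.card (π.subgroupMap D).ker := by
      rw [← h.card_center]
      refine Nat.card_le_card_of_injective (fun z : Subgroup.center T =>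
        (⟨⟨z, show (z : T)⁻¹ * x z ∈ _ from mul_mem (inv_mem z.2) (apply_mem_center x z.2)⟩, ?_⟩ :
          (π.subgroupMap D).ker)) ?_
      · exact Subtype.ext ((QuotientGroup.eq_one_iff _).mpr z.2)
      · intro a b e
        exact Subtype.ext (congrArg (fun u : (π.subgroupMap D).ker => ((u : D) : T)) e)
    have hsplit : 4 * Nat.card (D.map π) ≤ Nat.card D := by
      calc 4 * Nat.card (D.map π) ≤ Nat.card (π.subgroupMap D).ker * Nat.card (D.map π) :=
            Nat.mul_le_mul_right _ h4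
        _ = Nat.card D := h3
    have : Nat.card D * (4 * Nat.card δ.range) ≤ Nat.card D * Nat.card D := by
      exact Nat.mul_le_mul_left _ (le_trans (Nat.mul_le_mul_left 4 h2) hsplit)
    nlinarith
  let η : D →* Subgroup.center T := MonoidHom.mk' (fun y => ⟨(y : T)⁻¹ * x y, y.2⟩) fun a b => by
    refine Subtype.ext ?_
    show ((a : T) * b)⁻¹ * x ((a : T) * b) = ((a : T)⁻¹ * x a) * ((b : T)⁻¹ * x b)
    rw [map_mul, show ((a : T) * b)⁻¹ * (x a * x b) = (b : T)⁻¹ * ((a : T)⁻¹ * x a) * x b by group,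
      h.center_comm a.2 (b : T)⁻¹, mul_assoc]
  have hηle : Nat.card η.range ≤ 2 := by
    let Zx : Subgroup (Subgroup.center T) :=
      { carrier := {z | x (z : T) = z}
        one_mem' := map_one x
        mul_mem' := fun {a b} ha hb => by
          show x ((a : T) * b) = (a : T) * b
          rw [map_mul, ha, hb]
        inv_mem' := fun {a} ha => by
          show x (a : T)⁻¹ = (a : T)⁻¹
          rw [map_inv, ha] }
    have hr : η.range ≤ Zx := by
      rintro _ ⟨y, rfl⟩
      show x ((y : T)⁻¹ * x y) = (y : T)⁻¹ * x y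
      rw [map_mul, map_inv, hx]
      exact eq_comm.mp ((eq_inv_of_mul_eq_one_left (h.inv_center y.2)).trans (by group))
    have hne : Zx ≠ ⊤ := fun e => by
      obtain ⟨z, hz1⟩ : ∃ z : Subgroup.center T, z ≠ 1 := by
        haveI : Nontrivial (Subgroup.center T) :=
          Finite.one_lt_card_iff_nontrivial.mp (by rw [h.card_center]; norm_num)
        exact exists_ne 1
      have h1 : x (z : T) = z := (e ▸ Subgroup.mem_top z : z ∈ Zx)
      have h2 : x (ρ (z : T)) = ρ z :=
        (e ▸ Subgroup.mem_top (⟨ρ z, apply_mem_center ρ z.2⟩ : Subgroup.center T) :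
          (⟨ρ z, apply_mem_center ρ z.2⟩ : Subgroup.center T) ∈ Zx)
      rw [hxr, h1] at h2
      exact hz1 (Subtype.ext (h.fpf _ (ρ.injective h2)))
    have := PGroup.mul_card_le_card (h.pgroup.to_subgroup _) (lt_top_iff_ne_top.mpr hne)
    rw [Subgroup.card_top, h.card_center] at this
    have := Subgroup.card_le_of_le hr
    omega
  have hkerη : Nat.card η.ker ≤ Nat.card C := by
    refine Nat.card_le_card_of_injective (fun y : η.ker => (⟨(y : D), ?_⟩ : C)) fun a b e => ?_
    · have := congrArg Subtype.val y.2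
      exact (hC _).mpr (inv_mul_eq_one.mp this).symm
    · exact Subtype.ext (Subtype.ext (congrArg (fun u : C => (u : T)) e))
  have h1 := η.ker.card_mul_index
  rw [Subgroup.index_ker] at h1
  have h8 : Nat.card C = 8 := by
    have : Nat.card η.ker * Nat.card η.range ≤ Nat.card C * 2 := Nat.mul_le_mul hkerη hηle
    nlinarith
  refine ⟨h8, fun t => ?_⟩
  obtain ⟨⟨⟨a, ha⟩, ⟨b, hb⟩⟩, e⟩ := ((Nat.bijective_iff_injective_and_card m).mpr
    ⟨hinj, by rw [Nat.card_prod, h8, h.card]⟩).2 t
  exact ⟨a, ha, b, hb, e.symm⟩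

theorem exists_comm_ne (h : Fpf T ρ) (hxr : ∀ y, x (ρ y) = ρ (ρ (x y))) (hx : ∀ y, x (x y) = y)
    (C : Subgroup T) (hC : ∀ y, y ∈ C ↔ x y = y) : ∃ u ∈ C, ∃ v ∈ C, ⁅u, v⁆ ≠ 1 := by
  by_contra hc
  push Not at hc
  obtain ⟨-, hd⟩ := h.decomp hxr hx C hC
  refine h.nonab ⟨⟨fun s t => ?_⟩⟩
  obtain ⟨a, ha, b, hb, rfl⟩ := hd s
  obtain ⟨a', ha', b', hb', rfl⟩ := hd t
  refine commutatorElement_eq_one_iff_mul_comm.mp ?_
  rw [h.comm_mul_left, h.comm_mul_right, h.comm_mul_right, (h.comm_apply_right a b').1,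
    (h.comm_apply_right b a').2, ← apply_comm, hc a ha a' ha', hc a ha b' hb', hc b hb a' ha',
    hc b hb b' hb']
  simp

theorem exists_involution (h : Fpf T ρ) (hxr : ∀ y, x (ρ y) = ρ (ρ (x y))) (hx : ∀ y, x (x y) = y)
    (C : Subgroup T) (hC : ∀ y, y ∈ C ↔ x y = y) : ∃ y, y * y = 1 ∧ y ∉ Subgroup.center T := by
  obtain ⟨u, hu, v, hv, huv⟩ := h.exists_comm_ne hxr hx C hC
  have hnc : ∀ a b : T, ⁅a, b⁆ ≠ 1 → a ∉ Subgroup.center T := fun a b hne e =>
    hne (commutatorElement_eq_one_iff_mul_comm.mpr (h.center_comm e b).symm)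
  set z0 := ⁅u, v⁆ with hz0
  have hxz0 : x z0 = z0 := by rw [hz0, apply_comm, (hC u).mp hu, (hC v).mp hv]
  have hfixZ : ∀ w ∈ Subgroup.center T, x w = w → w = 1 ∨ w = z0 := by
    intro w hw hxw
    by_contra hne
    push Not at hne
    -- otherwise `x` would fix three elements of the centre
    let Zx : Subgroup T := Subgroup.center T ⊓ C
    have h1 : Nat.card Zx ∣ 4 := h.card_center ▸ Subgroup.card_dvd_of_le inf_le_left
    have hlt : Zx ≠ Subgroup.center T := fun e => by
      have hz : z0 ∈ Subgroup.center T := h.comm_mem_center u v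
      have h2 : x (ρ z0) = ρ z0 := (hC _).mp (e.symm ▸ apply_mem_center ρ hz : ρ z0 ∈ Zx).2
      rw [hxr, hxz0] at h2
      exact huv (h.fpf _ (ρ.injective h2))
    have h2 : Nat.card Zx < 4 := by
      refine h.card_center ▸ lt_of_le_of_ne (Subgroup.card_le_of_le inf_le_left) fun e => hlt ?_
      exact Subgroup.eq_of_le_of_card_ge inf_le_left e.ge
    have h3 : 2 < Nat.card Zx := by
      classical
      haveI : Fintype Zx := Fintype.ofFinite _
      rw [Nat.card_eq_fintype_card, Fintype.two_lt_card_iff]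
      exact ⟨⟨1, one_mem _⟩, ⟨w, hw, (hC w).mpr hxw⟩,
        ⟨z0, h.comm_mem_center u v, (hC _).mpr hxz0⟩,
        fun e => hne.1 (congrArg Subtype.val e).symm, fun e => huv (congrArg Subtype.val e).symm,
        fun e => hne.2 (congrArg Subtype.val e)⟩
    have := Nat.le_of_dvd (by norm_num) h1
    have : Nat.card Zx = 3 := by omega
    rw [this] at h1
    norm_num at h1
  have hsq : ∀ a ∈ C, a * a = 1 ∨ a * a = z0 := fun a ha =>
    hfixZ _ (h.sq_mem_center a) (by rw [map_mul, (hC a).mp ha])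
  rcases hsq u hu with e | e
  · exact ⟨u, e, hnc u v huv⟩
  rcases hsq v hv with e' | e'
  · exact ⟨v, e', hnc v u (by rwa [h.comm_symm])⟩
  refine ⟨u * ρ v, ?_, hnc _ u ?_⟩
  · rw [h.mul_sq, e, ← map_mul, e', (h.comm_apply_right u v).1]
    exact orbit_prod h.three h.fpf z0
  · rw [h.comm_mul_left, commutatorElement_self, one_mul, (h.comm_apply_right v u).2, h.comm_symm]
    intro e2
    exact huv ((map_eq_one_iff ρ ρ.injective).mp ((map_eq_one_iff ρ ρ.injective).mp e2))

end Fpf

end Cfsg.Agent.SylL34
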