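import Cfsg.Agent.Lib.Unital16.Group
import Cfsg.Agent.Lib.Forms.HermCenter
import Cfsg.Agent.Lib.SylL34.Fpf
import Cfsg.Agent.Lib.Fusion.UniTri

/-!
The Sylow 2-subgroup of `PSU₃(4)`: three involutions, all central, and five cosets of the centre
squaring to each of them; it has no group of automorphisms isomorphic to `S₃`.
-/

set_option autoImplicit false

namespace Cfsg.Agent.SylL34

open Cfsg.Agent.Unital16
open Matrix

namespace U34

/-- Parameters of the unipotent radical. -/
def cond (p : K16 × K16) : Prop := p.2 + p.2 ^ 4 = p.1 ^ 5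

instance decCond : DecidablePred cond := fun p => inferInstanceAs (Decidable (p.2 + p.2 ^ 4 = p.1 ^ 5))

/-- The product of parameters. -/
def pmul (p q : K16 × K16) : K16 × K16 := (p.1 + q.1, p.2 + q.2 + p.1 ^ 4 * q.1)

theorem cond_pmul {p q : K16 × K16} (hp : cond p) (hq : cond q) : cond (pmul p q) := by
  unfold cond at *
  simp only [pmul, add_pow_four, mul_pow]
  have h16 : (p.1 ^ 4) ^ 4 = p.1 := by rw [← pow_mul]; exact pow_sixteen p.1
  have h5 : (p.1 + q.1) ^ 5 = (p.1 ^ 4 + q.1 ^ 4) * (p.1 + q.1) := by rw [← add_pow_four, ← pow_succ]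
  rw [h5, h16]
  linear_combination hp + hq

def pP : Matrix (Fin 3) (Fin 3) K16 := !![1, 0, k 2; 1, 0, k 3; 0, 1, 0]
def pQ : Matrix (Fin 3) (Fin 3) K16 := !![k 3, k 2, 0; 0, 0, 1; 1, 1, 0]

theorem pQ_pP : pQ * pP = 1 := by decide +kernel

def up (p : K16 × K16) : Matrix (Fin 3) (Fin 3) K16 := !![1, p.1 ^ 4, p.2; 0, 1, p.1; 0, 0, 1]

/-- The matrix of a parameter. -/
def mat (p : K16 × K16) : Matrix (Fin 3) (Fin 3) K16 := pP * up p * pQ

theorem mat_mul (p q : K16 × K16) : mat p * mat q = mat (pmul p q) := by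
  have hu : up p * up q = up (pmul p q) := by
    ext i j
    fin_cases i <;> fin_cases j <;>
      simp [up, pmul, Matrix.mul_apply, Fin.sum_univ_three, add_pow_four, add_comm, add_assoc]
  unfold mat
  rw [← hu]
  calc pP * up p * pQ * (pP * up q * pQ) = pP * up p * (pQ * pP) * (up q * pQ) := by
        simp only [Matrix.mul_assoc]
    _ = pP * (up p * up q) * pQ := by rw [pQ_pP, Matrix.mul_one]; simp only [Matrix.mul_assoc]

theorem mat_injective : Function.Injective mat := by
  intro p q h
  have h' := congrArg (fun M => pQ * M * pP) h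
  simp only [mat] at h'
  have e : ∀ r, pQ * (pP * up r * pQ) * pP = up r := fun r => by
    calc pQ * (pP * up r * pQ) * pP = (pQ * pP) * up r * (pQ * pP) := by simp only [Matrix.mul_assoc]
      _ = up r := by rw [pQ_pP, Matrix.one_mul, Matrix.mul_one]
  rw [e, e] at h'
  exact Prod.ext (by simpa [up] using congrFun (congrFun h' 1) 2) (by simpa [up] using congrFun (congrFun h' 0) 2)

theorem mat_zero : mat (0, 0) = 1 := by decide +kernel

theorem mat_det (p : K16 × K16) : (mat p).det = 1 := by
  have h : pP.det * pQ.det = 1 := by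
    rw [det_fin_three, det_fin_three]; decide +kernel
  have hu : (up p).det = 1 := by rw [det_fin_three]; simp [up]
  rw [mat, det_mul, det_mul, hu, mul_one, h]

theorem mat_mem : ∀ a b : K16, cond (a, b) →
    ∀ i j : Fin 3, ∑ l, mat (a, b) l i * mat (a, b) l j ^ 4 = if i = j then 1 else 0 := by
  decide +kernel

/-- A parameter as an element of `SU₃(4)`. -/
def el (p : {p : K16 × K16 // cond p}) : U3 :=
  ⟨⟨mat p.1, mat_det _⟩, mem_U3_iff.2 (mat_mem p.1.1 p.1.2 p.2)⟩

theorem el_injective : Function.Injective el := fun p q h =>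
  Subtype.ext (mat_injective (congrArg (fun g : U3 => ((g : SpecialLinearGroup (Fin 3) K16) : Matrix (Fin 3) (Fin 3) K16)) h))

def prod (p q : {p : K16 × K16 // cond p}) : {p : K16 × K16 // cond p} :=
  ⟨pmul p.1 q.1, cond_pmul p.2 q.2⟩

theorem el_prod (p q : {p : K16 × K16 // cond p}) : el p * el q = el (prod p q) :=
  Subtype.ext (Subtype.ext (mat_mul p.1 q.1))

def zero' : {p : K16 × K16 // cond p} := ⟨(0, 0), by decide +kernel⟩

theorem el_zero : el zero' = 1 := Subtype.ext (Subtype.ext mat_zero)

/-- The Sylow subgroup. -/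
def sylMonoid : Submonoid U3 where
  carrier := Set.range el
  one_mem' := ⟨zero', el_zero⟩
  mul_mem' := by rintro _ _ ⟨p, rfl⟩ ⟨q, rfl⟩; exact ⟨prod p q, (el_prod p q).symm⟩

/-- The Sylow subgroup as a subgroup. -/
def syl : Subgroup U3 where
  toSubmonoid := sylMonoid
  inv_mem' := fun {x} hx => Fusion.UniTri.inv_mem_of_finite sylMonoid hx

/-- The parametrisation. -/
noncomputable def param : {p : K16 × K16 // cond p} ≃ syl :=
  Equiv.ofBijective (fun p => ⟨el p, ⟨p, rfl⟩⟩)
    ⟨fun _ _ h => el_injective (congrArg Subtype.val h), fun ⟨_, p, e⟩ => ⟨p, Subtype.ext e⟩⟩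

theorem param_prod (p q : {p : K16 × K16 // cond p}) : param p * param q = param (prod p q) :=
  Subtype.ext (el_prod p q)

theorem param_one : param zero' = 1 := Subtype.ext el_zero

theorem sq_facts : Fintype.card {p : K16 × K16 // cond p} = 64 ∧
    (Finset.univ.filter fun p : K16 × K16 => cond p ∧ pmul p p = (0, 0)).card = 4 ∧
    (∀ b : K16, cond (0, b) → b ≠ 0 →
      (Finset.univ.filter fun p : K16 × K16 => cond p ∧ pmul p p = (0, b)).card = 20) := by
  refine ⟨by decide +kernel, by decide +kernel, ?_⟩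
  decide +kernel

theorem pmul_self (p : K16 × K16) : pmul p p = (0, p.1 ^ 5) := by
  simp only [pmul, CharTwo.add_self_eq_zero, zero_add]
  rw [← pow_succ]

theorem exists_noncomm : ∃ p q : K16 × K16, cond p ∧ cond q ∧ pmul p q ≠ pmul q p := by
  decide +kernel

end U34

/-- The properties used. -/
structure U34Props (T : Type*) [Group T] : Prop where
  card : Nat.card T = 64
  nonab : ¬ IsMulCommutative T
  sq_sq : ∀ g : T, (g * g) * (g * g) = 1
  central : ∀ g : T, g * g = 1 → g ∈ Subgroup.center T
  card_inv : Nat.card {g : T // g * g = 1} = 4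
  card_sqrt : ∀ r : T, r * r = 1 → r ≠ 1 → Nat.card {g : T // g * g = r} = 20

namespace U34Props

theorem of_equiv {T T' : Type*} [Group T] [Group T'] (h : U34Props T') (e : T ≃* T') : U34Props T where
  card := (Nat.card_congr e.toEquiv).trans h.card
  nonab hc := h.nonab ⟨⟨fun a b => by
    obtain ⟨a, rfl⟩ := e.surjective a
    obtain ⟨b, rfl⟩ := e.surjective b
    rw [← map_mul, ← map_mul, hc.is_comm.comm]⟩⟩
  sq_sq g := e.injective (by rw [map_mul, map_mul, map_one]; exact h.sq_sq _)
  central g hg := Subgroup.mem_center_iff.mpr fun k => e.injective (by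
    rw [map_mul, map_mul]
    exact Subgroup.mem_center_iff.mp (h.central _ (by rw [← map_mul, hg, map_one])) _)
  card_inv := by
    rw [← h.card_inv]
    refine Nat.card_congr (e.toEquiv.subtypeEquiv fun g => ?_)
    show g * g = 1 ↔ e g * e g = 1
    rw [← map_mul, map_eq_one_iff e e.injective]
  card_sqrt r hr hr1 := by
    rw [← h.card_sqrt (e r) (by rw [← map_mul, hr, map_one])
      (fun he => hr1 ((map_eq_one_iff e e.injective).mp he))]
    refine Nat.card_congr (e.toEquiv.subtypeEquiv fun g => ?_)
    show g * g = r ↔ e g * e g = e r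
    rw [← map_mul, e.injective.eq_iff]

end U34Props

theorem props_syl : U34Props U34.syl := by
  classical
  obtain ⟨h64, h4, h20⟩ := U34.sq_facts
  have hcount : ∀ r : {p : K16 × K16 // U34.cond p},
      Nat.card {g : U34.syl // g * g = U34.param r} =
        (Finset.univ.filter fun p : K16 × K16 => U34.cond p ∧ U34.pmul p p = r.1).card := by
    intro r
    rw [← Fintype.card_subtype, ← Nat.card_eq_fintype_card]
    refine Nat.card_congr ((Equiv.subtypeEquiv U34.param.symm (q := fun p => U34.pmul p.1 p.1 = r.1) fun g => ?_).trans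
      (Equiv.subtypeSubtypeEquivSubtypeInter U34.cond (fun p => U34.pmul p p = r.1)))
    obtain ⟨p, rfl⟩ := U34.param.surjective g
    rw [U34.param_prod, U34.param.injective.eq_iff, Equiv.symm_apply_apply]
    exact ⟨fun e => congrArg Subtype.val e, fun e => Subtype.ext e⟩
  have hsq : ∀ p : {p : K16 × K16 // U34.cond p}, U34.param p * U34.param p = 1 ↔ p.1.1 = 0 := by
    intro p
    rw [U34.param_prod, ← U34.param_one, U34.param.injective.eq_iff, Subtype.ext_iff]
    show U34.pmul p.1 p.1 = (0, 0) ↔ _
    rw [U34.pmul_self]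
    simp
  refine ⟨?_, ?_, fun g => ?_, fun g hg => ?_, ?_, fun r hr hr1 => ?_⟩
  · rw [← Nat.card_congr U34.param, Nat.card_eq_fintype_card, h64]
  · intro hc
    obtain ⟨p, q, hp, hq, hne⟩ := U34.exists_noncomm
    have h := hc.is_comm.comm (U34.param ⟨p, hp⟩) (U34.param ⟨q, hq⟩)
    rw [U34.param_prod, U34.param_prod, U34.param.injective.eq_iff, Subtype.ext_iff] at h
    exact hne h
  · obtain ⟨p, rfl⟩ := U34.param.surjective g
    rw [U34.param_prod, hsq]
    show p.1.1 + p.1.1 = 0
    exact CharTwo.add_self_eq_zero _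
  · obtain ⟨p, rfl⟩ := U34.param.surjective g
    rw [hsq] at hg
    refine Subgroup.mem_center_iff.mpr fun k => ?_
    obtain ⟨q, rfl⟩ := U34.param.surjective k
    rw [U34.param_prod, U34.param_prod]
    refine congrArg _ (Subtype.ext ?_)
    show U34.pmul q.1 p.1 = U34.pmul p.1 q.1
    simp [U34.pmul, hg, add_comm]
  · rw [← U34.param_one, hcount, ← h4]
    rfl
  · obtain ⟨p, rfl⟩ := U34.param.surjective r
    have h0 := (hsq p).mp hr
    rw [hcount, show p.1 = (0, p.1.2) from Prod.ext h0 rfl]
    refine h20 p.1.2 ?_ fun e => hr1 ?_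
    · have := p.2; rwa [show p.1 = (0, p.1.2) from Prod.ext h0 rfl] at this
    · rw [← U34.param_one]
      exact congrArg _ (Subtype.ext (Prod.ext h0 e))

/-- The Sylow 2-subgroups of `PSU₃(4)`. -/
theorem props_of_sylow {F : Type*} [Field F] [Fintype F] (hF : Fintype.card F = 16)
    (S : Sylow 2 (Cfsg.PSU 3 F 4)) : U34Props ↥(S : Subgroup (Cfsg.PSU 3 F 4)) := by
  haveI : Fact (Nat.Prime 2) := ⟨Nat.prime_two⟩
  obtain ⟨e⟩ := nonempty_psu_equiv hF
  have hcard : Nat.card (Cfsg.PSU 3 F 4) = 62400 := by
    have h := Forms.card_PSU_mul (F := F) (q := 4) (by rw [hF]; norm_num) (n := 3) (by norm_num)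
    rw [Forms.card_GU (F := F) (q := 4) (by rw [hF]; norm_num) 3] at h
    have hg : Nat.gcd 3 (4 + 1) = 1 := by decide
    rw [hg] at h
    simp [Finset.prod_range_succ, Nat.even_iff] at h
    omega
  have hfac : (Nat.card (Cfsg.PSU 3 F 4)).factorization 2 = 6 := by
    rw [hcard, show (62400 : ℕ) = 2 ^ 6 * 975 by norm_num, Nat.factorization_mul (by norm_num) (by norm_num),
      Nat.Prime.factorization_pow Nat.prime_two, Finsupp.add_apply, Finsupp.single_eq_same,
      Nat.factorization_eq_zero_of_not_dvd (by norm_num : ¬ 2 ∣ 975)]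
  let P : Subgroup (Cfsg.PSU 3 F 4) := U34.syl.map e.symm.toMonoidHom
  let eP : U34.syl ≃* P := U34.syl.equivMapOfInjective _ e.symm.injective
  let S₀ : Sylow 2 (Cfsg.PSU 3 F 4) := Sylow.ofCard P (by
    rw [← Nat.card_congr eP.toEquiv, props_syl.card, hfac]; norm_num)
  exact props_syl.of_equiv ((S.equiv S₀).trans eP.symm)

variable {T : Type*} [Group T] [Finite T]

theorem card_fixed_modEq (σ : MulAut T) (h3 : ∀ g, σ (σ (σ g)) = g) (P : T → Prop)
    (hP : ∀ g, P g → P (σ g)) :
    Nat.card {g : T // P g} ≡ Nat.card {g : T // P g ∧ σ g = g} [MOD 3] := by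
  classical
  haveI : Fintype T := Fintype.ofFinite T
  haveI : Fact (Nat.Prime 3) := ⟨Nat.prime_three⟩
  let f : Function.End {g : T // P g} := fun x => ⟨σ x, hP x x.2⟩
  have hf : f ^ 3 ^ 1 = 1 := by
    funext x
    exact Subtype.ext (h3 x)
  have h := Equiv.Perm.card_fixedPoints_modEq (p := 3) (n := 1) hf
  rw [← Nat.card_eq_fintype_card, ← Nat.card_eq_fintype_card] at h
  let e : Function.fixedPoints f ≃ {g : T // P g ∧ σ g = g} :=
    { toFun := fun x => ⟨x.1.1, x.1.2, congrArg Subtype.val x.2⟩
      invFun := fun x => ⟨⟨x.1, x.2.1⟩, Subtype.ext x.2.2⟩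
      left_inv := fun x => rfl
      right_inv := fun x => rfl }
  rwa [Nat.card_congr e] at h

/-- An automorphism of order dividing 3 with a non-trivial fixed point is trivial. -/
theorem U34Props.eq_one (h : U34Props T) (σ : MulAut T) (h3 : ∀ g, σ (σ (σ g)) = g)
    (hfix : ∃ y, σ y = y ∧ y ≠ 1) : σ = 1 := by
  classical
  haveI : Fintype T := Fintype.ofFinite T
  haveI : Fact (Nat.Prime 2) := ⟨Nat.prime_two⟩
  have hpow : ∀ (P : T → Prop) [DecidablePred P],
      Nat.card {g : T // P g} = (Finset.univ.filter P).card := fun P _ => by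
    rw [Nat.card_eq_fintype_card, Fintype.card_subtype]
  obtain ⟨i, hi, hi1, hi2⟩ : ∃ i, σ i = i ∧ i ≠ 1 ∧ i * i = 1 := by
    obtain ⟨y, hy, hy1⟩ := hfix
    by_cases e : y * y = 1
    · exact ⟨y, hy, hy1, e⟩
    · exact ⟨y * y, by rw [map_mul, hy], e, h.sq_sq y⟩
  -- every involution is fixed
  have hI : ∀ g, g * g = 1 → σ g = g := by
    have hm := card_fixed_modEq σ h3 (fun g => g * g = 1) fun g hg => by rw [← map_mul, hg, map_one]
    rw [h.card_inv] at hm
    have hle : Nat.card {g : T // g * g = 1 ∧ σ g = g} ≤ 4 := by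
      rw [← h.card_inv]
      exact Nat.card_le_card_of_injective (fun x => ⟨x.1, x.2.1⟩)
        fun a b e => Subtype.ext (congrArg (fun u : {g : T // g * g = 1} => (u : T)) e)
    have h2 : 2 ≤ Nat.card {g : T // g * g = 1 ∧ σ g = g} := by
      rw [hpow]
      refine le_of_eq_of_le (Finset.card_pair (Ne.symm hi1)).symm (Finset.card_le_card ?_)
      intro x hx
      simp only [Finset.mem_insert, Finset.mem_singleton] at hx
      rcases hx with rfl | rfl <;> simp [hi, hi2]
    have h4 : Nat.card {g : T // g * g = 1 ∧ σ g = g} = 4 := by unfold Nat.ModEq at hm; omega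
    intro g hg
    have heq : (Finset.univ.filter fun g : T => g * g = 1 ∧ σ g = g) =
        Finset.univ.filter fun g : T => g * g = 1 := by
      refine Finset.eq_of_subset_of_card_le (Finset.monotone_filter_right _ fun x _ hx => hx.1) ?_
      rw [← hpow (fun g => g * g = 1 ∧ σ g = g), ← hpow (fun g => g * g = 1), h4, h.card_inv]
    have : g ∈ Finset.univ.filter fun g : T => g * g = 1 ∧ σ g = g := by rw [heq]; simp [hg]
    exact (Finset.mem_filter.mp this).2.2
  have h5 : ∀ r, r * r = 1 → r ≠ 1 →
      5 ≤ (Finset.univ.filter fun g : T => g * g = r ∧ σ g = g).card := by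
    intro r hr hr1
    have hm := card_fixed_modEq σ h3 (fun g => g * g = r) fun g hg => by rw [← map_mul, hg, hI r hr]
    rw [h.card_sqrt r hr hr1, hpow (fun g => g * g = r ∧ σ g = g)] at hm
    obtain ⟨g, hg⟩ : (Finset.univ.filter fun g : T => g * g = r ∧ σ g = g).Nonempty := by
      rw [← Finset.card_pos]; unfold Nat.ModEq at hm; omega
    simp only [Finset.mem_filter, Finset.mem_univ, true_and] at hg
    have h4 : 4 ≤ (Finset.univ.filter fun k : T => k * k = r ∧ σ k = k).card := by
      rw [← h.card_inv, hpow]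
      refine Finset.card_le_card_of_injOn (fun z => g * z) (fun z hz => ?_) fun a _ b _ e => mul_left_cancel e
      simp only [Finset.coe_filter, Finset.mem_univ, true_and, Set.mem_setOf_eq] at hz ⊢
      refine ⟨?_, by rw [map_mul, hg.2, hI z hz]⟩
      have hc := Subgroup.mem_center_iff.mp (h.central z hz)
      calc g * z * (g * z) = g * (z * g) * z := by group
        _ = g * g * (z * z) := by rw [← hc g]; group
        _ = r := by rw [hg.1, hz, mul_one]
    unfold Nat.ModEq at hm; omega
  have h4 : (Finset.univ.filter fun g : T => g * g = 1).card = 4 := by rw [← hpow, h.card_inv]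
  have h19 : 19 ≤ (Finset.univ.filter fun g : T => σ g = g).card := by
    have hsub : (Finset.univ.filter fun g : T => g * g = 1).biUnion
        (fun r => Finset.univ.filter fun g : T => g * g = r ∧ σ g = g) ⊆
          Finset.univ.filter fun g : T => σ g = g := by
      intro g hg
      simp only [Finset.mem_biUnion, Finset.mem_filter, Finset.mem_univ, true_and] at hg ⊢
      obtain ⟨r, -, -, e⟩ := hg
      exact e
    refine le_trans ?_ (Finset.card_le_card hsub)
    rw [Finset.card_biUnion]
    · have h1 : (1 : T) ∈ Finset.univ.filter fun g : T => g * g = 1 := by simp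
      rw [← Finset.add_sum_erase _ _ h1]
      have hge : ((Finset.univ.filter fun g : T => g * g = 1).erase 1).card * 5 ≤
          ∑ r ∈ (Finset.univ.filter fun g : T => g * g = 1).erase 1,
            (Finset.univ.filter fun g : T => g * g = r ∧ σ g = g).card := by
        rw [← smul_eq_mul, ← Finset.sum_const]
        refine Finset.sum_le_sum fun r hr => ?_
        simp only [Finset.mem_erase, Finset.mem_filter, Finset.mem_univ, true_and] at hr
        exact h5 r hr.2 hr.1
      rw [Finset.card_erase_of_mem h1, h4] at hge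
      have h1' : 4 ≤ (Finset.univ.filter fun g : T => g * g = 1 ∧ σ g = g).card := by
        rw [← h4]
        refine Finset.card_le_card fun g hg => ?_
        simp only [Finset.mem_filter, Finset.mem_univ, true_and] at hg ⊢
        exact ⟨hg, hI g hg⟩
      omega
    · intro r _ r' _ hne
      rw [Function.onFun, Finset.disjoint_left]
      intro g hg hg'
      simp only [Finset.mem_filter, Finset.mem_univ, true_and] at hg hg'
      exact hne (hg.1.symm.trans hg'.1)
  -- the fixed points form a subgroup of order 64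
  let Fx : Subgroup T :=
    { carrier := {g | σ g = g}
      one_mem' := map_one σ
      mul_mem' := fun {a b} ha hb => by
        show σ (a * b) = a * b
        rw [map_mul, ha, hb]
      inv_mem' := fun {a} ha => by
        show σ a⁻¹ = a⁻¹
        rw [map_inv, ha] }
  have hcard : Nat.card Fx = (Finset.univ.filter fun g : T => σ g = g).card := hpow fun g => σ g = g
  have hdvd := Subgroup.card_subgroup_dvd_card Fx
  rw [h.card] at hdvd
  have hmod := card_fixed_modEq σ h3 (fun _ => True) fun _ _ => trivial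
  rw [hpow, hpow] at hmod
  simp only [true_and, Finset.filter_true, Finset.card_univ, Fintype.card_eq_nat_card, h.card] at hmod
  obtain ⟨k, hk, hFk⟩ := (Nat.dvd_prime_pow Nat.prime_two).mp (show Nat.card Fx ∣ 2 ^ 6 from hdvd)
  have htop : Fx = ⊤ := by
    refine Subgroup.eq_top_of_card_eq _ ?_
    rw [h.card]
    rw [← hcard] at h19 hmod
    unfold Nat.ModEq at hmod
    interval_cases k <;> omega
  refine MulEquiv.ext fun g => ?_
  show σ g = g
  exact (htop ▸ Subgroup.mem_top g : g ∈ Fx)

end Cfsg.Agent.SylL34
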